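import Mathlib.AlgebraicGeometry.Sites.BigZariski
import Mathlib.AlgebraicGeometry.Limits
import Mathlib.AlgebraicGeometry.Morphisms.Affine
import Mathlib.CategoryTheory.Sites.Canonical
import Mathlib.CategoryTheory.Sites.Over

/-!
# The topology generated by a class of morphisms, affine locally
-/

set_option autoImplicit false
set_option backward.isDefEq.respectTransparency.types false
universe v u

open CategoryTheory CategoryTheory.Limits AlgebraicGeometry Opposite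

noncomputable section

namespace GrothLib.ClassTop

variable {S : Scheme.{u}} (C : MorphismProperty Scheme.{u})

/-- Affine pieces in the sieve, jointly a `C`-morphism onto `U`. -/
def Cov {X : Over S} (U : X.left.Opens) (R : Sieve X) : Prop :=
  ∃ (κ : Type u) (_ : Finite κ) (V : κ → Over S) (φ : ∀ j, V j ⟶ X)
    (ψ : ∀ j, (V j).left ⟶ (U : Scheme.{u})),
    (∀ j, IsAffine (V j).left) ∧ (∀ j, R.arrows (φ j)) ∧ (∀ j, ψ j ≫ U.ι = (φ j).left) ∧
      C (Sigma.desc ψ)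

/-- The covering sieves. -/
def Mem (X : Over S) (R : Sieve X) : Prop :=
  ∃ (ι : Type u) (U : ι → X.left.Opens), (∀ i, IsAffineOpen (U i)) ∧ ⨆ i, U i = ⊤ ∧ ∀ i, Cov C (U i) R

theorem exists_affine_cover (X : Scheme.{u}) :
    ∃ U : X → X.Opens, (∀ x, IsAffineOpen (U x)) ∧ ⨆ x, U x = ⊤ := by
  choose U hU hxU _ using fun x : X => exists_isAffineOpen_mem_and_subset (U := ⊤) (x := x) trivial
  exact ⟨U, hU, top_le_iff.1 fun x _ => TopologicalSpace.Opens.mem_iSup.2 ⟨x, hxU x⟩⟩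

variable [C.IsStableUnderBaseChange] [C.IsStableUnderComposition]
  (haff : ∀ (U : Scheme.{u}) [IsAffine U] (κ : Type u) [Finite κ] (V : κ → U.Opens),
    (∀ j, IsAffineOpen (V j)) → ⨆ j, V j = ⊤ → C (Limits.Sigma.desc fun j => (V j).ι))
  (hcoprod : ∀ (κ : Type u) [Finite κ] (A B : κ → Scheme.{u}) (f : ∀ j, A j ⟶ B j),
    (∀ j, C (f j)) → C (Limits.Sigma.map f))

include haff in
/-- An affine open whose inclusion is in the sieve is covered. -/
theorem cov_of_mem {X : Over S} (U : X.left.Opens) (hU : IsAffineOpen U) (R : Sieve X)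
    (h : R.arrows (Over.homMk U.ι rfl : Over.mk (U.ι ≫ X.hom) ⟶ X)) : Cov C U R := by
  haveI : IsAffine (U : Scheme.{u}) := hU
  let T : (U : Scheme.{u}).Opens := ⊤
  let e : Over.mk ((T.ι ≫ U.ι) ≫ X.hom) ⟶ Over.mk (U.ι ≫ X.hom) :=
    Over.homMk T.ι (Category.assoc _ _ _).symm
  exact ⟨PUnit, inferInstance, fun _ => Over.mk ((T.ι ≫ U.ι) ≫ X.hom), fun _ => e ≫ Over.homMk U.ι rfl,
    fun _ => T.ι, fun _ => isAffineOpen_top _, fun _ => R.downward_closed h e, fun _ => rfl,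
    haff _ PUnit (fun _ => T) (fun _ => isAffineOpen_top _) (iSup_const)⟩

include haff in
theorem mem_top (X : Over S) : Mem C X ⊤ := by
  obtain ⟨U, hU, hcov⟩ := exists_affine_cover X.left
  exact ⟨_, U, hU, hcov, fun x => cov_of_mem C haff _ (hU x) _ trivial⟩

/-- Pulling back a covering piece to an affine scheme. -/
theorem exists_pullback_pieces {U W : Scheme.{u}} [IsAffine W] [IsAffine U] {κ : Type u} [Finite κ]
    {V : κ → Scheme.{u}} [∀ j, IsAffine (V j)] (ψ : ∀ j, V j ⟶ U) (w : W ⟶ U)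
    (hψ : C (Sigma.desc ψ)) :
    (∀ p : κ × PUnit.{u + 1}, IsAffine (pullback (ψ p.1) w)) ∧
      C (Sigma.desc fun p : κ × PUnit.{u + 1} => pullback.snd (ψ p.1) w) := by
  refine ⟨fun p => inferInstance, ?_⟩
  let d := Sigma.desc fun p : κ × PUnit.{u + 1} =>
    pullback.snd (ψ p.1) w ≫ Sigma.ι (fun _ : PUnit.{u + 1} => W) p.2
  have h : C d := MorphismProperty.of_isPullback
    (FinitaryPreExtensive.isPullback_sigmaDesc ψ fun _ : PUnit.{u + 1} => w) hψ
  let e : (∐ fun _ : PUnit.{u + 1} => W) ⟶ W := Sigma.desc fun _ => 𝟙 W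
  haveI : IsIso e := ⟨Sigma.ι (fun _ : PUnit.{u + 1} => W) PUnit.unit, by
    apply Sigma.hom_ext
    rintro ⟨⟩
    simp [e], by simp [e]⟩
  have he : d ≫ e = Sigma.desc fun p : κ × PUnit.{u + 1} => pullback.snd (ψ p.1) w := by
    apply Sigma.hom_ext
    intro p
    simp [d, e]
  rw [← he]
  exact (C.cancel_right_of_respectsIso d e).2 h

theorem mem_pullback {X Y : Over S} (g : Y ⟶ X) {R : Sieve X} (h : Mem C X R) :
    Mem C Y (R.pullback g) := by
  obtain ⟨ι, U, hU, hcov, hC⟩ := h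
  choose i hi using fun y : Y.left =>
    TopologicalSpace.Opens.mem_iSup.1 (hcov.ge (Set.mem_univ (g.left.base y) : g.left.base y ∈ (⊤ : X.left.Opens)))
  choose W hW hyW hWU using fun y : Y.left =>
    exists_isAffineOpen_mem_and_subset (U := g.left ⁻¹ᵁ U (i y)) (x := y) (hi y)
  refine ⟨Y.left, W, hW, top_le_iff.1 fun y _ => TopologicalSpace.Opens.mem_iSup.2 ⟨y, hyW y⟩, fun y => ?_⟩
  obtain ⟨κ, _, V, φ, ψ, hV, hR, hψφ, hψ⟩ := hC (i y)
  haveI : IsAffine (W y : Scheme.{u}) := hW y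
  haveI : IsAffine (U (i y) : Scheme.{u}) := hU _
  haveI := hV
  let w : (W y : Scheme.{u}) ⟶ (U (i y) : Scheme.{u}) :=
    IsOpenImmersion.lift (U (i y)).ι ((W y).ι ≫ g.left) (by
      rintro _ ⟨z, rfl⟩
      rw [Scheme.Opens.range_ι]
      exact hWU y z.2)
  have hw : w ≫ (U (i y)).ι = (W y).ι ≫ g.left := IsOpenImmersion.lift_fac _ _ _
  obtain ⟨haff', hC'⟩ := exists_pullback_pieces C ψ w hψ
  refine ⟨κ × PUnit.{u + 1}, inferInstance,
    fun p => Over.mk ((pullback.snd (ψ p.1) w ≫ (W y).ι) ≫ Y.hom),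
    fun p => Over.homMk (pullback.snd (ψ p.1) w ≫ (W y).ι) rfl, fun p => pullback.snd (ψ p.1) w,
    haff', fun p => ?_, fun p => rfl, hC'⟩
  have e : pullback.fst (ψ p.1) w ≫ (φ p.1).left = (pullback.snd (ψ p.1) w ≫ (W y).ι) ≫ g.left := by
    rw [← hψφ, pullback.condition_assoc, hw, Category.assoc]
  let k : Over.mk ((pullback.snd (ψ p.1) w ≫ (W y).ι) ≫ Y.hom) ⟶ V p.1 :=
    Over.homMk (pullback.fst (ψ p.1) w) (by
      rw [← Over.w (φ p.1), ← Category.assoc, e, Category.assoc _ g.left X.hom, Over.w g]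
      rfl)
  have : (Over.homMk (pullback.snd (ψ p.1) w ≫ (W y).ι) rfl :
      Over.mk ((pullback.snd (ψ p.1) w ≫ (W y).ι) ≫ Y.hom) ⟶ Y) ≫ g = k ≫ φ p.1 :=
    Over.OverMorphism.ext e.symm
  change R.arrows (_ ≫ g)
  rw [this]
  exact R.downward_closed (hR p.1) k

include haff hcoprod in
theorem mem_trans {X : Over S} {T : Sieve X} (hT : Mem C X T) (R : Sieve X)
    (h : ∀ ⦃Y : Over S⦄ ⦃f : Y ⟶ X⦄, T.arrows f → Mem C Y (R.pullback f)) : Mem C X R := by
  obtain ⟨ι, U, hU, hcov, hC⟩ := hT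
  refine ⟨ι, U, hU, hcov, fun i => ?_⟩
  obtain ⟨κ, _, V, φ, ψ, hV, hφ, hψφ, hψ⟩ := hC i
  have sub : ∀ j, ∃ (L : Type u) (_ : Finite L) (A : L → (V j).left.Opens),
      (∀ l, IsAffineOpen (A l)) ∧ ⨆ l, A l = ⊤ ∧ ∀ l, Cov C (A l) (R.pullback (φ j)) := fun j => by
    obtain ⟨L, A, hA, hAc, hcv⟩ := h (hφ j)
    haveI := hV j
    obtain ⟨t, ht⟩ := isCompact_univ.elim_finite_subcover (fun l => (A l : Set (V j).left)) (fun l => (A l).2)
      (fun x _ => Set.mem_iUnion.2 (TopologicalSpace.Opens.mem_iSup.1 (hAc.ge (Set.mem_univ x))))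
    refine ⟨{l // l ∈ t}, inferInstance, fun l => A l.1, fun l => hA _, top_le_iff.1 fun x _ => ?_, fun l => hcv _⟩
    obtain ⟨l, hl, hxl⟩ := Set.mem_iUnion₂.1 (ht (Set.mem_univ x))
    exact TopologicalSpace.Opens.mem_iSup.2 ⟨⟨l, hl⟩, hxl⟩
  choose L hL A hA hAc hcv using sub
  choose M hM W χ ω hW hχ hωχ hω using hcv
  let Q := Σ j, L j
  let A' : Q → Scheme.{u} := fun q => (A q.1 q.2 : Scheme.{u})
  let P := Σ q : Q, M q.1 q.2
  let W' : ∀ q : Q, M q.1 q.2 → Scheme.{u} := fun q m => (W q.1 q.2 m).left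
  let d₁ : ∀ q : Q, (∐ W' q) ⟶ A' q := fun q => Limits.Sigma.desc (ω q.1 q.2)
  have h1 : C (Limits.Sigma.map d₁) := hcoprod Q _ _ d₁ fun q => hω q.1 q.2
  have h2 : C (Limits.Sigma.map fun j => Limits.Sigma.desc fun l => (A j l).ι :
      (∐ fun j => ∐ fun l => (A j l : Scheme.{u})) ⟶ ∐ fun j => (V j).left) :=
    hcoprod κ _ _ _ fun j => by
      haveI := hV j
      haveI := hL j
      exact haff _ (L j) (A j) (hA j) (hAc j)
  let e₂ := sigmaSigmaIso L fun j l => (A j l : Scheme.{u})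
  let e₁ := sigmaSigmaIso (fun q : Q => M q.1 q.2) W'
  let ψ' : ∀ p : P, (W p.1.1 p.1.2 p.2).left ⟶ (U i : Scheme.{u}) := fun p =>
    ω p.1.1 p.1.2 p.2 ≫ (A p.1.1 p.1.2).ι ≫ ψ p.1.1
  refine ⟨P, inferInstance, fun p => W p.1.1 p.1.2 p.2, fun p => χ p.1.1 p.1.2 p.2 ≫ φ p.1.1, ψ',
    fun p => hW _ _ _, fun p => hχ p.1.1 p.1.2 p.2, fun p => ?_, ?_⟩
  · change (ω p.1.1 p.1.2 p.2 ≫ (A p.1.1 p.1.2).ι ≫ ψ p.1.1) ≫ (U i).ι =
      (χ p.1.1 p.1.2 p.2).left ≫ (φ p.1.1).left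
    rw [Category.assoc, Category.assoc, hψφ, ← Category.assoc, hωχ]
  · have e : Sigma.desc ψ' = e₁.inv ≫ (Limits.Sigma.map d₁ ≫ e₂.inv ≫
        (Limits.Sigma.map fun j => Limits.Sigma.desc fun l => (A j l).ι) ≫ Sigma.desc ψ) := by
      rw [Iso.eq_inv_comp]
      apply Sigma.hom_ext
      intro q
      apply Sigma.hom_ext
      intro m
      change Sigma.ι (W' q) m ≫ Sigma.ι (fun q : Q => ∐ W' q) q ≫
          (Limits.Sigma.desc fun i => Limits.Sigma.desc fun x =>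
            Sigma.ι (fun p : P => W' p.1 p.2) ⟨i, x⟩) ≫ Sigma.desc ψ' =
        Sigma.ι (W' q) m ≫ Sigma.ι (fun q : Q => ∐ W' q) q ≫ Limits.Sigma.map d₁ ≫ e₂.inv ≫
          (Limits.Sigma.map fun j => Limits.Sigma.desc fun l => (A j l).ι) ≫ Sigma.desc ψ
      rw [Sigma.ι_desc_assoc, Sigma.ι_desc_assoc, Sigma.ι_map_assoc]
      erw [Sigma.ι_desc]
      simp [ψ', d₁, e₂, sigmaSigmaIso]
      erw [Sigma.ι_desc_assoc]
      simp
    rw [e]
    refine (C.cancel_left_of_respectsIso e₁.inv _).2 (C.comp_mem _ _ h1 ?_)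
    exact (C.cancel_left_of_respectsIso e₂.inv _).2 (C.comp_mem _ _ h2 hψ)

include haff hcoprod in
theorem exists_topology : ∃ J : GrothendieckTopology (Over S),
    ∀ (X : Over S) (R : Sieve X), R ∈ J X ↔ Mem C X R :=
  ⟨{ sieves := fun X => {R | Mem C X R}
     top_mem' := mem_top C haff
     pullback_stable' := fun _ _ _ g h => mem_pullback C g h
     transitive' := fun _ _ h R hR => mem_trans C haff hcoprod h R hR }, fun _ _ => Iff.rfl⟩

theorem mem_zariski_over {X : Over S} {ι : Type u} (T : ι → Over S) (f : ∀ i, T i ⟶ X)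
    [∀ i, IsOpenImmersion (f i).left] (hcov : ∀ x, ∃ i, x ∈ Set.range (f i).left.base) :
    Sieve.ofArrows T f ∈ (Scheme.zariskiTopology.over S) X := by
  rw [GrothendieckTopology.mem_over_iff, Sieve.overEquiv_ofArrows]
  refine Precoverage.generate_mem_toGrothendieck ?_
  exact Scheme.ofArrows_mem_precoverage_iff _ |>.2 ⟨hcov, fun i => inferInstance⟩

include haff in
theorem zariski_le (J : GrothendieckTopology (Over S))
    (hJ : ∀ (X : Over S) (R : Sieve X), R ∈ J X ↔ Mem C X R) :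
    Scheme.zariskiTopology.over S ≤ J := by
  intro X R hR
  rw [GrothendieckTopology.mem_over_iff, Scheme.mem_grothendieckTopology_iff] at hR
  obtain ⟨𝒰, h𝒰⟩ := hR
  choose U hU hxU hUr using fun x : X.left =>
    exists_isAffineOpen_mem_and_subset (U := (𝒰.f (𝒰.idx x)).opensRange) (x := x) (𝒰.covers x)
  refine (hJ X R).2 ⟨X.left, U, hU, top_le_iff.1 fun x _ => TopologicalSpace.Opens.mem_iSup.2 ⟨x, hxU x⟩, fun x => ?_⟩
  refine cov_of_mem C haff _ (hU x) R ?_
  let a : 𝒰.X (𝒰.idx x) ⟶ X.left := 𝒰.f (𝒰.idx x)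
  have ha : R.arrows (Over.homMk a : Over.mk (a ≫ X.hom) ⟶ X) :=
    (Sieve.overEquiv_iff R a).1 (h𝒰 _ _ (Presieve.ofArrows.mk (𝒰.idx x)))
  haveI : IsOpenImmersion a := 𝒰.map_prop _
  let l := IsOpenImmersion.lift a (U x).ι (by rw [Scheme.Opens.range_ι]; exact hUr x)
  have hl : l ≫ a = (U x).ι := IsOpenImmersion.lift_fac _ _ _
  let k : Over.mk ((U x).ι ≫ X.hom) ⟶ Over.mk (a ≫ X.hom) := Over.homMk l (by
    change l ≫ a ≫ X.hom = (U x).ι ≫ X.hom
    rw [← Category.assoc, hl])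
  have := R.downward_closed ha k
  convert this using 1
  exact Over.OverMorphism.ext hl.symm

theorem pullback_generate_singleton {X X' Q : Over S} (f : X' ⟶ X) (g : Q ⟶ X) :
    (Sieve.generate (Presieve.singleton f)).pullback g =
      Sieve.generate (Presieve.singleton (Over.homMk (pullback.snd f.left g.left) rfl :
        Over.mk (pullback.snd f.left g.left ≫ Q.hom) ⟶ Q)) := by
  ext Z h
  constructor
  · rintro ⟨W, k, _, ⟨⟩, hk⟩
    have hk' : k.left ≫ f.left = h.left ≫ g.left := congrArg (fun m => m.left) hk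
    refine ⟨_, Over.homMk (pullback.lift k.left h.left hk') ?_, _, ⟨⟩, ?_⟩
    · change pullback.lift k.left h.left hk' ≫ pullback.snd _ _ ≫ Q.hom = Z.hom
      rw [pullback.lift_snd_assoc, Over.w h]
    · exact Over.OverMorphism.ext (pullback.lift_snd _ _ _)
  · rintro ⟨W, k, _, ⟨⟩, rfl⟩
    refine ⟨X', k ≫ Over.homMk (pullback.fst f.left g.left) ?_, f, ⟨⟩, ?_⟩
    · change pullback.fst f.left g.left ≫ X'.hom = pullback.snd f.left g.left ≫ Q.hom
      rw [← Over.w f, ← Over.w g, ← Category.assoc, pullback.condition, Category.assoc]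
    · refine Over.OverMorphism.ext ?_
      change (k.left ≫ pullback.fst f.left g.left) ≫ f.left = (k.left ≫ pullback.snd f.left g.left) ≫ g.left
      rw [Category.assoc, pullback.condition, Category.assoc]

variable (hqc : ∀ {A B : Scheme.{u}} (f : A ⟶ B), C f → QuasiCompact f)
  (hres : ∀ (W X' : Scheme.{u}) [IsAffine W] (f : X' ⟶ W), C f →
    ∀ (κ : Type u) [Finite κ] (A : κ → X'.Opens), (∀ l, IsAffineOpen (A l)) → ⨆ l, A l = ⊤ →
      C (Limits.Sigma.desc fun l => (A l).ι ≫ f))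

include hqc hres in
theorem generate_singleton_mem (J : GrothendieckTopology (Over S))
    (hJ : ∀ (X : Over S) (R : Sieve X), R ∈ J X ↔ Mem C X R) {X X' : Over S} (f : X' ⟶ X)
    (hf : C f.left) : Sieve.generate (Presieve.singleton f) ∈ J X := by
  obtain ⟨U, hU, hcov⟩ := exists_affine_cover X.left
  refine (hJ X _).2 ⟨X.left, U, hU, hcov, fun x => ?_⟩
  let q := pullback.snd f.left (U x).ι
  have hq : C q := MorphismProperty.pullback_snd _ _ hf
  haveI : IsAffine (U x : Scheme.{u}) := hU x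
  haveI : QuasiCompact q := hqc q hq
  haveI : CompactSpace ↥(pullback f.left (U x).ι) := QuasiCompact.compactSpace_of_compactSpace q
  obtain ⟨A, hA, hAc⟩ := exists_affine_cover (pullback f.left (U x).ι)
  obtain ⟨t, ht⟩ := isCompact_univ.elim_finite_subcover
    (fun a => (A a : Set ↥(pullback f.left (U x).ι))) (fun a => (A a).2)
    (fun z _ => Set.mem_iUnion.2 (TopologicalSpace.Opens.mem_iSup.1 (hAc.ge (Set.mem_univ z))))
  have hAt : ⨆ l : {a // a ∈ t}, A l.1 = ⊤ := top_le_iff.1 fun z _ => by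
    obtain ⟨a, ha, hz⟩ := Set.mem_iUnion₂.1 (ht (Set.mem_univ z))
    exact TopologicalSpace.Opens.mem_iSup.2 ⟨⟨a, ha⟩, hz⟩
  refine ⟨{a // a ∈ t}, inferInstance, fun l => Over.mk ((((A l.1).ι ≫ q) ≫ (U x).ι) ≫ X.hom),
    fun l => Over.homMk (((A l.1).ι ≫ q) ≫ (U x).ι) rfl, fun l => (A l.1).ι ≫ q, fun l => hA l.1,
    fun l => ?_, fun l => rfl, hres _ _ q hq _ _ (fun l => hA l.1) hAt⟩
  refine ⟨X', Over.homMk ((A l.1).ι ≫ pullback.fst f.left (U x).ι) ?_, f, ⟨⟩, ?_⟩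
  · change ((A l.1).ι ≫ pullback.fst f.left (U x).ι) ≫ X'.hom = (((A l.1).ι ≫ q) ≫ (U x).ι) ≫ X.hom
    rw [← Over.w f, Category.assoc, ← Category.assoc (pullback.fst _ _), pullback.condition]
    simp only [q, Category.assoc]
  · refine Over.OverMorphism.ext ?_
    change ((A l.1).ι ≫ pullback.fst f.left (U x).ι) ≫ f.left = ((A l.1).ι ≫ q) ≫ (U x).ι
    rw [Category.assoc, pullback.condition, Category.assoc]

include haff hqc hres in
theorem isSheaf_iff (J : GrothendieckTopology (Over S))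
    (hJ : ∀ (X : Over S) (R : Sieve X), R ∈ J X ↔ Mem C X R) (F : (Over S)ᵒᵖ ⥤ Type v) :
    Presieve.IsSheaf J F ↔
      (Presieve.IsSheaf (Scheme.zariskiTopology.over S) F ∧
        ∀ (X X' : Over S) (f : X' ⟶ X), C f.left → Presieve.IsSheafFor F (Presieve.singleton f)) := by
  constructor
  · intro h
    exact ⟨Presieve.isSheaf_of_le F (zariski_le C haff J hJ) h, fun X X' f hf =>
      (Presieve.isSheafFor_iff_generate _).2 (h _ (generate_singleton_mem C hqc hres J hJ f hf))⟩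
  rintro ⟨hZ, hF⟩
  let K := Sheaf.finestTopologySingle F
  have hKZ : Scheme.zariskiTopology.over S ≤ K := fun X R hR Y g =>
    hZ _ ((Scheme.zariskiTopology.over S).pullback_stable g hR)
  have hKC : ∀ {X X' : Over S} (f : X' ⟶ X), C f.left → Sieve.generate (Presieve.singleton f) ∈ K X := by
    intro X X' f hf Y g
    rw [pullback_generate_singleton]
    exact (Presieve.isSheafFor_iff_generate _).1 (hF _ _ _ (MorphismProperty.pullback_snd _ _ hf))
  intro X R hR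
  have hRK : R ∈ K X := by
    obtain ⟨ι, U, hU, hcov, hC⟩ := (hJ X R).1 hR
    let T : ι → Over S := fun i => Over.mk ((U i).ι ≫ X.hom)
    let f : ∀ i, T i ⟶ X := fun i => Over.homMk (U i).ι rfl
    haveI : ∀ i, IsOpenImmersion (f i).left := fun i => inferInstanceAs (IsOpenImmersion (U i).ι)
    refine K.transitive (hKZ _ (mem_zariski_over T f fun x => ?_)) R ?_
    · obtain ⟨i, hi⟩ := TopologicalSpace.Opens.mem_iSup.1 (hcov.ge (Set.mem_univ x : x ∈ (⊤ : X.left.Opens)))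
      exact ⟨i, ⟨x, hi⟩, rfl⟩
    rintro Y g ⟨Z, a, b, ⟨i⟩, rfl⟩
    rw [Sieve.pullback_comp]
    refine K.pullback_stable a ?_
    obtain ⟨κ, _, V, φ, ψ, hV, hφ, hψφ, hψ⟩ := hC i
    let Sg : Over S := Over.mk ((Sigma.desc ψ : (∐ fun j => (V j).left) ⟶ _) ≫ (U i).ι ≫ X.hom)
    let d : Sg ⟶ T i := Over.homMk (Sigma.desc ψ) rfl
    refine K.transitive (hKC d hψ) _ ?_
    rintro Y' g' ⟨_, a', _, ⟨⟩, rfl⟩
    rw [Sieve.pullback_comp]
    refine K.pullback_stable a' ?_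
    let ι' : ∀ j, Over.mk ((ψ j ≫ (U i).ι) ≫ X.hom) ⟶ Sg := fun j =>
      Over.homMk (Sigma.ι (fun j => (V j).left) j) (by
        change Sigma.ι _ j ≫ Sigma.desc ψ ≫ (U i).ι ≫ X.hom = _
        rw [Sigma.ι_desc_assoc]
        exact (Category.assoc _ _ _).symm)
    haveI : ∀ j, IsOpenImmersion (ι' j).left := fun j =>
      inferInstanceAs (IsOpenImmersion (Sigma.ι (fun j => (V j).left) j))
    refine K.superset_covering ?_ (hKZ _ (mem_zariski_over _ ι' fun x => (sigmaOpenCover _).exists_eq x))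
    rintro W w ⟨_, b, _, ⟨j⟩, rfl⟩
    change R.arrows (((b ≫ ι' j) ≫ d) ≫ f i)
    simp only [Category.assoc]
    refine R.downward_closed ?_ b
    let e : Over.mk ((ψ j ≫ (U i).ι) ≫ X.hom) ⟶ V j := Over.homMk (𝟙 _) (by
      change 𝟙 _ ≫ (V j).hom = (ψ j ≫ (U i).ι) ≫ X.hom
      rw [Category.id_comp, hψφ j, Over.w])
    have he : ι' j ≫ d ≫ f i = e ≫ φ j := Over.OverMorphism.ext (by
      change Sigma.ι _ j ≫ Sigma.desc ψ ≫ (U i).ι = 𝟙 _ ≫ (φ j).left
      rw [Sigma.ι_desc_assoc, Category.id_comp]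
      exact hψφ j)
    rw [he]
    exact R.downward_closed (hφ j) e
  have := hRK X (𝟙 X)
  rwa [Sieve.pullback_id] at this

end GrothLib.ClassTop
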